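import Groth.Agent.QCoh.Ab.CechBridge
import Mathlib.SetTheory.Cardinal.Finite
import Mathlib.Algebra.Category.Grp.Zero

/-!
# Čech cohomology of a finite family vanishes from its cardinality on
-/

universe u

set_option autoImplicit false

open CategoryTheory CategoryTheory.Limits TopologicalSpace Opposite
open Groth.Agent.QCoh.Ab

namespace Groth.Agent.DSites.CechCard

variable {X : TopCat.{u}} (P : TopCat.Presheaf AddCommGrpCat.{u} X)

open Classical in
/-- Cocycles of degree at least the number of members are coboundaries. -/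
theorem exists_d_eq : ∀ (n : ℕ) {ι : Type u} [Finite ι] (_ : Nat.card ι ≤ n) (U : ι → Opens X) (q : ℕ) (_ : n ≤ q)
    (c : Cochain P U (q + 1)), IsNatural c → d c = 0 → ∃ h : Cochain P U q, IsNatural h ∧ d h = c := by
  intro n
  induction n with
  | zero =>
    intro ι _ hι U q hq c hc hd
    have : IsEmpty ι := Finite.card_eq_zero_iff.1 (Nat.le_zero.1 hι)
    exact ⟨0, fun σ W W' h h' i => map_zero _, funext fun σ => isEmptyElim (σ 0)⟩
  | succ n ih =>
    intro ι _ hι U q hq c hc hd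
    rcases isEmpty_or_nonempty ι with h | ⟨⟨i⟩⟩
    · exact ih (by simp) U q (Nat.le_of_succ_le hq) c hc hd
    obtain ⟨q, rfl⟩ : ∃ m, q = m + 1 := ⟨q - 1, by omega⟩
    let κ := {j : ι // j ≠ i}
    have hκ : Nat.card κ ≤ n := by
      have := Finite.card_subtype_lt (p := fun j : ι => j ≠ i) (x := i) (by simp)
      show Nat.card {j : ι // j ≠ i} ≤ n
      omega
    -- remove the part avoiding `i`
    let c' : Cochain P (fun j : κ => U j.1) (q + 2) := fun σ W => c (fun k => (σ k).1) ⟨W.1, W.2⟩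
    obtain ⟨b', hb', hdb'⟩ := ih hκ (fun j : κ => U j.1) (q + 1) (by omega) c'
      (fun σ W W' h h' f => hc _ W W' h h' f) (funext₂ fun σ W => congrFun (congrFun hd (fun k => (σ k).1)) ⟨W.1, W.2⟩)
    let b : Cochain P U (q + 1) := fun σ W =>
      if h : ∀ k, σ k ≠ i then b' (fun k => ⟨σ k, h k⟩) ⟨W.1, W.2⟩ else 0
    have hb : IsNatural b := fun σ W W' h h' f => by
      by_cases hσ : ∀ k, σ k ≠ i
      · simp only [b, dif_pos hσ]; exact hb' (fun k => ⟨σ k, hσ k⟩) W W' h h' f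
      · simp only [b, dif_neg hσ, map_zero]
    let c₀ : Cochain P U (q + 2) := c - d b
    have hc₀ : IsNatural c₀ := fun σ W W' h h' f => by
      show P.map f.op (c σ ⟨W, h⟩ - d b σ ⟨W, h⟩) = c σ ⟨W', h'⟩ - d b σ ⟨W', h'⟩
      rw [map_sub, hc σ W W' h h' f, d_natural hb σ W W' h h' f]
    have hd₀ : d c₀ = 0 := by rw [d_sub, d_d, hd, sub_zero]
    have hK₀ : ∀ σ (W), (∀ k, σ k ≠ i) → c₀ σ W = 0 := fun σ W hσ => by
      refine sub_eq_zero.2 ((congrFun (congrFun hdb' fun k => ⟨σ k, hσ k⟩) ⟨W.1, W.2⟩).symm.trans ?_)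
      refine Finset.sum_congr rfl fun a _ => congrArg _ ?_
      exact Eq.symm ((dif_pos fun k => hσ (a.succAbove k)).trans rfl)
    -- kill the part with one `i` in front
    let g : Cochain P (fun j : κ => U j.1 ⊓ U i) (q + 1) := fun ρ W =>
      c₀ (Fin.cons i fun k => (ρ k).1) ⟨W.1, Fin.cases ((W.2 0).trans inf_le_right) fun k => (W.2 k).trans inf_le_left⟩
    obtain ⟨e, he, hde⟩ := ih hκ (fun j : κ => U j.1 ⊓ U i) q (by omega) g
      (fun ρ W W' h h' f => hc₀ _ W W' _ _ f) (funext₂ fun ρ W => by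
        have hi : W.1 ≤ U i := (W.2 0).trans inf_le_right
        have hτ : Le U (fun k => (ρ k).1) W.1 := fun k => (W.2 k).trans inf_le_left
        have := d_cons c₀ i (fun k => (ρ k).1) W.1 hi hτ
        rw [hd₀, hK₀ _ _ fun k => (ρ k).2, zero_sub] at this
        exact neg_eq_zero.1 this.symm)
    let E : Cochain P U (q + 1) := fun σ W =>
      if h : σ 0 = i ∧ ∀ k : Fin q, σ k.succ ≠ i then
        e (fun k => ⟨σ k.succ, h.2 k⟩) ⟨W.1, fun k => le_inf (W.2 k.succ) (h.1 ▸ W.2 0)⟩ else 0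
    have hE : IsNatural E := fun σ W W' h h' f => by
      by_cases hσ : σ 0 = i ∧ ∀ k : Fin q, σ k.succ ≠ i
      · simp only [E, dif_pos hσ]; exact he (fun k => ⟨σ k.succ, hσ.2 k⟩) W W' _ _ f
      · simp only [E, dif_neg hσ, map_zero]
    let c₁ : Cochain P U (q + 2) := c₀ + d E
    have hd₁ : d c₁ = 0 := by rw [d_add, d_d, hd₀, add_zero]
    have hc₁ : IsNatural c₁ := fun σ W W' h h' f => by
      show P.map f.op (c₀ σ ⟨W, h⟩ + d E σ ⟨W, h⟩) = c₀ σ ⟨W', h'⟩ + d E σ ⟨W', h'⟩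
      rw [map_add, hc₀ σ W W' h h' f, d_natural hE σ W W' h h' f]
    have hK₁ : ∀ σ (W), (∀ k, σ k ≠ i) → c₁ σ W = 0 := fun σ W hσ => by
      show c₀ σ W + d E σ W = 0
      rw [hK₀ σ W hσ, zero_add]
      exact Finset.sum_eq_zero fun a _ => (congrArg _ (dif_neg fun h => hσ _ h.1)).trans (smul_zero _)
    have hI₁ : ∀ (τ : Fin (q + 1) → ι) (W : Opens X) (hi : W ≤ U i) (hτ : Le U τ W), (∀ k, τ k ≠ i) →
        c₁ (Fin.cons i τ) ⟨W, Fin.cases hi hτ⟩ = 0 := fun τ W hi hτ hτi => by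
      show c₀ _ _ + d E _ _ = 0
      rw [d_cons E i τ W hi hτ, show E τ ⟨W, hτ⟩ = 0 from dif_neg fun h => hτi 0 h.1, zero_sub,
        ← sub_eq_add_neg, sub_eq_zero]
      refine (congrFun (congrFun hde fun k => ⟨τ k, hτi k⟩) ⟨W, fun k => le_inf (hτ k) hi⟩).symm.trans ?_
      refine Finset.sum_congr rfl fun a _ => congrArg _ ?_
      refine Eq.symm ((dif_pos ⟨rfl, fun k => ?_⟩).trans rfl)
      exact hτi (a.succAbove k)
    let h : Cochain P U (q + 1) := fun ρ W =>
      if hρ : ∃ k, ρ k = i then c₁ (Fin.cons i ρ) ⟨W.1, Fin.cases (hρ.choose_spec ▸ W.2 hρ.choose) W.2⟩ else 0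
    have hh : IsNatural h := fun σ W W' hW hW' f => by
      by_cases hσ : ∃ k, σ k = i
      · simp only [h, dif_pos hσ]; exact hc₁ _ W W' _ _ f
      · simp only [h, dif_neg hσ, map_zero]
    have hdh : d h = c₁ := funext₂ fun σ W => by
      by_cases hσ : ∃ k, σ k = i
      · have hi : W.1 ≤ U i := hσ.choose_spec ▸ W.2 hσ.choose
        have := d_cons c₁ i σ W.1 hi W.2
        rw [hd₁] at this
        refine Eq.trans ?_ (sub_eq_zero.1 this.symm).symm
        refine Finset.sum_congr rfl fun a _ => congrArg _ ?_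
        by_cases ha : ∃ k, σ (a.succAbove k) = i
        · exact dif_pos ha
        · exact (dif_neg ha).trans (hI₁ _ W.1 hi (fun k => W.2 _) fun k hk => ha ⟨k, hk⟩).symm
      · rw [hK₁ σ W fun k hk => hσ ⟨k, hk⟩]
        exact Finset.sum_eq_zero fun a _ => (congrArg _ (dif_neg fun ⟨k, hk⟩ => hσ ⟨_, hk⟩)).trans (smul_zero _)
    refine ⟨b + (h - E), fun σ W W' hW hW' f => ?_, ?_⟩
    · show P.map f.op (b σ ⟨W, hW⟩ + (h σ ⟨W, hW⟩ - E σ ⟨W, hW⟩)) = _
      rw [map_add, map_sub, hb σ W W' hW hW' f, hh σ W W' hW hW' f, hE σ W W' hW hW' f]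
      rfl
    · rw [d_add, d_sub, hdh]
      show d b + (c - d b + d E - d E) = c
      abel

/-- Čech cohomology vanishes from the cardinality of the family on. -/
theorem isZero_homology {ι : Type u} [Finite ι] (U : ι → Opens X) (q : ℕ) (hq : Nat.card ι ≤ q) :
    IsZero (((cechComplexFunctor U).obj P).homology q) := by
  rw [← (HomologicalComplex.homologyMapIso (cechIso P U) q).isZero_iff, ← HomologicalComplex.exactAt_iff_isZero_homology]
  rcases q with _ | p
  · have : IsEmpty ι := Finite.card_eq_zero_iff.1 (Nat.le_zero.1 hq)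
    refine HomologicalComplex.ExactAt.of_isZero ?_
    have : Subsingleton ((natCx P U).X 0) := ⟨fun a b => ?_⟩
    · exact AddCommGrpCat.isZero_of_subsingleton _
    exact Subtype.ext (funext fun σ => isEmptyElim (σ 0))
  · rw [HomologicalComplex.exactAt_iff' _ p (p + 1) (p + 2) (by simp) (by simp), ShortComplex.ab_exact_iff]
    simp only [HomologicalComplex.sc', HomologicalComplex.shortComplexFunctor'_obj_f,
      HomologicalComplex.shortComplexFunctor'_obj_g, natCx_d]
    intro c hd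
    obtain ⟨b, hbn, hb⟩ := exists_d_eq P _ le_rfl U (p + 1) hq c.1 c.2 (congrArg Subtype.val hd)
    exact ⟨⟨b, hbn⟩, Subtype.ext hb⟩

end Groth.Agent.DSites.CechCard
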